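import Groth.Agent.PerfCompLib.Core
import Groth.Agent.FiltSectLib.Resol
import Groth.Agent.FiltSectLib.Comm
import Groth.Agent.FreeResLib.Colimit
import Mathlib

/-!
An object whose `Ext` functors commute with direct sums is compact against uniformly bounded below
families; with finite cohomological dimension it is compact.
-/

set_option autoImplicit false
set_option backward.isDefEq.respectTransparency false
set_option linter.style.haveILetI false

universe v u t w

open CategoryTheory CategoryTheory.Limits CategoryTheory.Pretriangulated HomologicalComplex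
open CochainComplex.HomComplex Abelian

namespace Groth.Agent.AbCompactLib

variable {A : Type u} [Category.{v} A] [Abelian A] [IsGrothendieckAbelian.{v} A] [HasExt.{v} A]
  [HasDerivedCategory.{t} A]

/-- No higher `Ext` from `P`. -/
def ExtAcyclic (P M : A) : Prop := ∀ p : ℕ, Subsingleton (Ext P M (p + 1))

omit [IsGrothendieckAbelian.{v} A] [HasDerivedCategory.{t} A] in
theorem extAcyclic_injective (P I : A) [Injective I] : ExtAcyclic P I := fun _ =>
  subsingleton_of_forall_eq 0 Ext.eq_zero_of_injective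

omit [IsGrothendieckAbelian.{v} A] [HasDerivedCategory.{t} A] in
theorem extAcyclic_of_iso {P M N : A} (e : M ≅ N) (h : ExtAcyclic P M) : ExtAcyclic P N := fun p => by
  haveI := h p
  refine ⟨fun a b => ?_⟩
  have key : ∀ a : Ext P N (p + 1),
      (a.comp (Ext.mk₀ e.inv) (add_zero _)).comp (Ext.mk₀ e.hom) (add_zero _) = a := fun a => by
    rw [Ext.comp_assoc_of_second_deg_zero, Ext.mk₀_comp_mk₀, Iso.inv_hom_id, Ext.comp_mk₀_id]
  rw [← key a, ← key b, Subsingleton.elim (a.comp (Ext.mk₀ e.inv) (add_zero _))]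

omit [IsGrothendieckAbelian.{v} A] [HasDerivedCategory.{t} A] in
theorem extAcyclic_biprod {P M N : A} (hM : ExtAcyclic P M) (hN : ExtAcyclic P N) :
    ExtAcyclic P (M ⊞ N) := fun p => by
  haveI := hM p
  haveI := hN p
  refine subsingleton_of_forall_eq 0 fun a => ?_
  rw [← a.comp_mk₀_id, ← biprod.total, Ext.mk₀_add, Ext.comp_add, ← Ext.mk₀_comp_mk₀,
    ← Ext.mk₀_comp_mk₀, ← Ext.comp_assoc_of_third_deg_zero, ← Ext.comp_assoc_of_third_deg_zero,
    Subsingleton.elim (a.comp (Ext.mk₀ (biprod.fst : M ⊞ N ⟶ M)) (add_zero _)) 0,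
    Subsingleton.elim (a.comp (Ext.mk₀ (biprod.snd : M ⊞ N ⟶ N)) (add_zero _)) 0]
  simp

theorem acycClass (P : A)
    (hc : ∀ (p : ℕ) (ι : Type v), PreservesColimitsOfShape (Discrete ι) (extFunctorObj P p)) :
    PerfCompLib.AcycClass P (ExtAcyclic P) where
  injective I hI := extAcyclic_injective P I
  sigma {ι} I hI p := by
    haveI := hc (p + 1) ι
    haveI := hI
    suffices h0 : IsZero ((extFunctorObj P (p + 1)).obj (∐ I)) from
      AddCommGrpCat.subsingleton_of_isZero h0
    refine (IsZero.iff_id_eq_zero _).2 ?_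
    refine (isColimitOfPreserves (extFunctorObj P (p + 1)) (coproductIsCoproduct I)).hom_ext fun i => ?_
    haveI := extAcyclic_injective P (I i.as) p
    ext (x : Ext P (I i.as) (p + 1))
    have : x = 0 := Subsingleton.elim _ _
    subst this
    exact (map_zero _).trans (map_zero _).symm
  iso e h := extAcyclic_of_iso e h
  biprod := extAcyclic_biprod
  lift {S} hS h₁ g := by
    haveI := h₁ 0
    obtain ⟨x, hx⟩ := Ext.covariant_sequence_exact₃ P hS (Ext.mk₀ g) (zero_add 1) (Subsingleton.elim _ _)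
    refine ⟨Ext.addEquiv₀ x, (Ext.mk₀_bijective P S.X₃).1 ?_⟩
    rw [← Ext.mk₀_comp_mk₀, ← hx]
    congr 1
    exact Ext.addEquiv₀.left_inv x
  quot {S} hS h₁ h₂ p := by
    haveI := h₁ (p + 1)
    haveI := h₂ p
    refine subsingleton_of_forall_eq 0 fun a => ?_
    obtain ⟨b, hb⟩ := Ext.covariant_sequence_exact₃ P hS a rfl (Subsingleton.elim _ _)
    rw [← hb, Subsingleton.elim b 0, Ext.zero_comp]

omit [IsGrothendieckAbelian.{v} A] [HasDerivedCategory.{t} A] in
/-- `Ext⁰` commuting with sums: maps into a sum factor through a finite subsum. -/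
theorem exists_cut (P : A) {ι : Type v} (Y : ι → A) [HasCoproduct Y]
    [PreservesColimitsOfShape (Discrete ι) (extFunctorObj P 0)] (g : P ⟶ ∐ Y) :
    ∃ S : Finset ι, g ≫ PerfCompLib.cut Y S = g := by
  classical
  let N : AddSubgroup (P ⟶ ∐ Y) :=
    { carrier := Set.ofPred fun g => ∃ S : Finset ι, g ≫ PerfCompLib.cut Y S = g
      zero_mem' := ⟨∅, zero_comp⟩
      add_mem' := fun {a b} ⟨S, hS⟩ ⟨T, hT⟩ => ⟨S ∪ T, by
        rw [Preadditive.add_comp, PerfCompLib.comp_cut_of_subset hS Finset.subset_union_left,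
          PerfCompLib.comp_cut_of_subset hT Finset.subset_union_right]⟩
      neg_mem' := fun {a} ⟨S, hS⟩ => ⟨S, by rw [Preadditive.neg_comp, hS]⟩ }
  let N' : AddSubgroup (Ext P (∐ Y) 0) := N.comap Ext.addEquiv₀.toAddMonoidHom
  have key : AddCommGrpCat.ofHom (QuotientAddGroup.mk' N') =
      (0 : AddCommGrpCat.of (Ext P (∐ Y) 0) ⟶ AddCommGrpCat.of (_ ⧸ N')) := by
    refine (isColimitOfPreserves (extFunctorObj P 0) (coproductIsCoproduct Y)).hom_ext fun i => ?_
    ext (x : Ext P (Y i.as) 0)
    obtain ⟨a, rfl⟩ := (Ext.mk₀_bijective P (Y i.as)).2 x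
    refine (QuotientAddGroup.eq_zero_iff _).2 ?_
    show Ext.addEquiv₀ ((Ext.mk₀ a).comp (Ext.mk₀ (Sigma.ι Y i.as)) (add_zero 0)) ∈ N
    rw [Ext.mk₀_comp_mk₀]
    have : Ext.addEquiv₀ (Ext.mk₀ (a ≫ Sigma.ι Y i.as)) = a ≫ Sigma.ι Y i.as :=
      Ext.addEquiv₀.right_inv _
    rw [this]
    exact ⟨{i.as}, by rw [Category.assoc, PerfCompLib.ι_cut, if_pos (Finset.mem_singleton_self _)]⟩
  have h : Ext.addEquiv₀ (Ext.mk₀ g) ∈ N :=
    (QuotientAddGroup.eq_zero_iff (N := N') (Ext.mk₀ g)).1 (congr($key (Ext.mk₀ g)))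
  rwa [show Ext.addEquiv₀ (Ext.mk₀ g) = g from Ext.addEquiv₀.right_inv _] at h

/-- Compactness against uniformly bounded below families. -/
theorem finFac_bounded (P : A)
    (hc : ∀ (p : ℕ) (ι : Type v), PreservesColimitsOfShape (Discrete ι) (extFunctorObj P p))
    {I : Type v} (M : I → DerivedCategory A) [HasCoproduct fun i : ULift.{w} I => M i.down]
    (a : ℤ) (hM : ∀ i, (M i).IsGE a) :
    PerfCompLib.FinFac (fun i : ULift.{w} I => M i.down)
      ((DerivedCategory.singleFunctor A 0).obj P) :=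
  PerfCompLib.FinFac.of_iso ((DerivedCategory.singleFunctorIsoCompQ A 0).app P).symm
    (PerfCompLib.finFac_single (acycClass P hc)
      (fun {ι} Y g => haveI := hc 0 ι; exists_cut P Y g) M a hM)

omit [IsGrothendieckAbelian.{v} A] [HasDerivedCategory.{t} A] in
theorem shortExact_cycles (Z : CochainComplex A ℤ) (m n : ℤ) (hmn : m + 1 = n) (hZ : Z.ExactAt n) :
    ∃ (w : Z.iCycles m ≫ Z.toCycles m n = 0), (ShortComplex.mk _ _ w).ShortExact := by
  have hw : Z.iCycles m ≫ Z.toCycles m n = 0 := by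
    rw [← cancel_mono (Z.iCycles n)]
    simp
  refine ⟨hw, { exact := ?_, mono_f := inferInstanceAs (Mono (Z.iCycles _)),
                epi_g := PerfCompLib.epi_toCycles hmn hZ }⟩
  refine ShortComplex.exact_of_f_is_kernel _ ?_
  refine isKernelOfComp (Z.iCycles n) _ (Z.cyclesIsKernel m n (by simp [hmn])) hw ?_
  exact Z.toCycles_i _ _

/-- Maps from `P` into sufficiently negative objects vanish. -/
theorem hom_eq_zero (P : A) (d : ℕ) (hd : ∀ (M : A) (p : ℕ), d < p → Subsingleton (Ext P M p))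
    (Z : DerivedCategory A) (hZ : Z.IsLE (-(d : ℤ) - 1))
    (f : (DerivedCategory.singleFunctor A 0).obj P ⟶ Z) : f = 0 := by
  let Z₀ := DerivedCategory.Q.objPreimage Z
  obtain ⟨R, η, hR⟩ := FiltSectLib.exists_kInjFunctor (A := A)
  let J := R.obj Z₀
  haveI := (hR Z₀).1
  haveI := (hR Z₀).2.1
  let eJ : DerivedCategory.Q.obj J ≅ Z :=
    (asIso (DerivedCategory.Q.map (η.app Z₀))).symm ≪≫ DerivedCategory.Q.objObjPreimageIso Z
  haveI : J.IsLE (-(d : ℤ) - 1) := (DerivedCategory.isLE_Q_obj_iff J _).1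
    (DerivedCategory.TStructure.t.isLE_of_iso eJ.symm _)
  have hinj := (hR Z₀).2.2
  have hcyc : ∀ (k : ℕ) (m : ℤ), -(d : ℤ) - 1 + k ≤ m → ∀ q : ℕ, d ≤ q + k →
      Subsingleton (Ext P (J.cycles m) (q + 1)) := by
    intro k
    induction k with
    | zero => exact fun m _ q hq => hd _ _ (by omega)
    | succ k ih =>
      intro m hm q hq
      obtain ⟨w, hS⟩ := shortExact_cycles J (m - 1) m (by omega)
        (CochainComplex.exactAt_of_isLE J (-(d : ℤ) - 1) m (by push_cast at hm; omega))
      haveI := ih (m - 1) (by push_cast at hm ⊢; omega) (q + 1) (by omega)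
      haveI : Injective (J.X (m - 1)) := hinj (m - 1)
      refine subsingleton_of_forall_eq 0 fun a => ?_
      obtain ⟨b, hb⟩ := Ext.covariant_sequence_exact₃ P hS a rfl (Subsingleton.elim _ _)
      rw [← hb, Ext.eq_zero_of_injective b, Ext.zero_comp]
  let K := (CochainComplex.singleFunctor A 0).obj P
  let eK := (DerivedCategory.singleFunctorIsoCompQ A 0).app P
  obtain ⟨g, hg⟩ := DerLib.KInjUse.Q_map_surjective K J (eK.inv ≫ f ≫ eJ.inv)
  let z : P ⟶ J.X 0 := Cochain.fromSingleEquiv (p := 0) (q := 0) (n := 0) rfl (Cochain.ofHom g)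
  have hz : z ≫ J.d 0 1 = 0 := by
    change ((singleObjXSelf (.up ℤ) 0 P).inv ≫ (Cochain.ofHom g).v 0 0 rfl) ≫ J.d 0 1 = 0
    rw [Cochain.ofHom_v, Category.assoc]
    refine (congrArg (_ ≫ ·) (g.comm 0 1)).trans ?_
    exact (congrArg (_ ≫ ·) ((congrArg (· ≫ g.f 1)
      (HomologicalComplex.single_obj_d (c := ComplexShape.up ℤ) 0 P 0 1)).trans zero_comp)).trans comp_zero
  obtain ⟨w, hS⟩ := shortExact_cycles J (-1) 0 (by omega)
    (CochainComplex.exactAt_of_isLE J (-(d : ℤ) - 1) 0 (by omega))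
  haveI : Subsingleton (Ext P (J.cycles (-1)) (0 + 1)) := hcyc d (-1) (by omega) 0 (by omega)
  obtain ⟨x, hx⟩ := Ext.covariant_sequence_exact₃ P hS
    (Ext.mk₀ (J.liftCycles z 1 (by simp) hz)) rfl (Subsingleton.elim _ _)
  obtain ⟨y, rfl⟩ := (Ext.mk₀_bijective P (J.X (-1))).2 x
  have hy : y ≫ J.d (-1) 0 = z := by
    have e : y ≫ J.toCycles (-1) 0 = J.liftCycles z 1 (by simp) hz :=
      (Ext.mk₀_bijective P _).1 ((Ext.mk₀_comp_mk₀ _ _).symm.trans hx)
    rw [← J.toCycles_i (-1) 0, ← Category.assoc, e, J.liftCycles_i]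
  have hg0 : DerivedCategory.Q.map g = 0 := by
    refine (PerfCompLib.Q_map_eq_of_single g 0 y ?_).trans (Functor.map_zero _ _ _)
    rw [Cochain.ofHom_zero, map_zero]
    exact hy.symm.trans (add_zero _).symm
  rw [hg0] at hg
  rw [← cancel_epi eK.inv, ← cancel_mono eJ.inv, Category.assoc, ← hg]
  simp

omit [HasExt.{v} A] in
/-- Reindexed representing coproducts. -/
theorem exists_sigma_iso {I : Type v} (P : I → CochainComplex A ℤ) (M : I → DerivedCategory A)
    (e : ∀ i, DerivedCategory.Q.obj (P i) ≅ M i) [HasCoproduct fun i : ULift.{w} I => M i.down] :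
    ∃ E : DerivedCategory.Q.obj (∐ P) ≅ ∐ fun i : ULift.{w} I => M i.down,
      ∀ i : ULift.{w} I, DerivedCategory.Q.map (Sigma.ι P i.down) ≫ E.hom =
        (e i.down).hom ≫ Sigma.ι (fun i : ULift.{w} I => M i.down) i := by
  let hsum : IsColimit (Cofan.mk (DerivedCategory.Q.obj (∐ P))
      (fun i => (e i).inv ≫ DerivedCategory.Q.map (Sigma.ι P i)) : Cofan M) :=
    (IsColimit.precomposeInvEquiv (Discrete.natIso fun i => e i.as) _).symm
      (KFlatLib.isColimit_Q_sigma P).some |>.ofIsoColimit (Cocone.ext (Iso.refl _) fun i => by simp)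
  let hU : IsColimit (Cofan.mk (DerivedCategory.Q.obj (∐ P))
      (fun i : ULift.{w} I => (e i.down).inv ≫ DerivedCategory.Q.map (Sigma.ι P i.down)) :
        Cofan fun i : ULift.{w} I => M i.down) := PerfCompLib.isColimitULift _ hsum
  refine ⟨hU.coconePointUniqueUpToIso (coproductIsCoproduct _), fun i => ?_⟩
  have := IsColimit.comp_coconePointUniqueUpToIso_hom hU
    (coproductIsCoproduct fun i : ULift.{w} I => M i.down) (Discrete.mk i)
  simp only [Cofan.mk_ι_app, cofan_mk_inj, Category.assoc, Iso.inv_comp_eq] at this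
  exact this

/-- Compactness under a bound on cohomological dimension. -/
theorem finFac_of_dim (P : A) (d : ℕ) (hd : ∀ (M : A) (p : ℕ), d < p → Subsingleton (Ext P M p))
    (hc : ∀ (p : ℕ) (ι : Type v), PreservesColimitsOfShape (Discrete ι) (extFunctorObj P p))
    {I : Type v} (M : I → DerivedCategory A) [HasCoproduct fun i : ULift.{w} I => M i.down] :
    PerfCompLib.FinFac (fun i : ULift.{w} I => M i.down)
      ((DerivedCategory.singleFunctor A 0).obj P) := by
  classical
  let N₀ : ℤ := -(d : ℤ) - 1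
  let N := N₀ + 1
  let C := fun i => DerivedCategory.Q.objPreimage (M i)
  let e := fun i => DerivedCategory.Q.objObjPreimageIso (M i)
  let C' := fun i => (C i).truncGE N
  let M' := fun i => DerivedCategory.Q.obj (C' i)
  let hU : IsColimit (Cofan.mk (DerivedCategory.Q.obj (∐ C'))
      (fun i : ULift.{w} I => DerivedCategory.Q.map (Sigma.ι C' i.down)) :
        Cofan fun i : ULift.{w} I => M' i.down) :=
    PerfCompLib.isColimitULift (Cofan.mk _ fun j => DerivedCategory.Q.map (Sigma.ι C' j))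
      (KFlatLib.isColimit_Q_sigma C').some
  haveI hM' : HasCoproduct fun i : ULift.{w} I => M' i.down := ⟨⟨⟨_, hU⟩⟩⟩
  obtain ⟨E, hE⟩ := exists_sigma_iso C M e
  obtain ⟨E', hE'⟩ := exists_sigma_iso C' M' fun i => Iso.refl _
  let τ := Limits.Sigma.map fun i => (C i).πTruncGE N
  let q := E.inv ≫ DerivedCategory.Q.map τ ≫ E'.hom
  have hq : ∀ i : ULift.{w} I, Sigma.ι (fun i : ULift.{w} I => M i.down) i ≫ q =
      ((e i.down).inv ≫ DerivedCategory.Q.map ((C i.down).πTruncGE N)) ≫
        Sigma.ι (fun i : ULift.{w} I => M' i.down) i := fun i => by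
    have h : Sigma.ι (fun i : ULift.{w} I => M i.down) i ≫ E.inv =
        (e i.down).inv ≫ DerivedCategory.Q.map (Sigma.ι C i.down) := by
      rw [Iso.comp_inv_eq, Category.assoc, hE, Iso.inv_hom_id_assoc]
    rw [reassoc_of% h, ← Functor.map_comp_assoc, Sigma.ι_map, Functor.map_comp, Category.assoc, hE']
    simp [Category.assoc]
  haveI : HasFiniteBiproducts A := Abelian.hasFiniteBiproducts
  haveI : AB4OfSize.{v} A := AB4.of_AB5 A
  have hiso : ∀ j, N ≤ j → IsIso ((DerivedCategory.homologyFunctor A j).map q) := fun j hj => by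
    haveI : IsIso (HomologicalComplex.homologyMap τ j) :=
      FiltSectLib.isIso_homologyMap_colimit (coproductIsCoproduct C) (coproductIsCoproduct C')
        (Discrete.natTrans fun i => (C i.as).πTruncGE N) τ (fun i => Sigma.ι_map _ i.as) j fun i =>
        (quasiIsoAt_iff_isIso_homologyMap _ _).1 ((C i.as).quasiIsoAt_πTruncGE N j hj)
    haveI : IsIso ((DerivedCategory.homologyFunctor A j).map (DerivedCategory.Q.map τ)) :=
      (NatIso.isIso_map_iff (DerivedCategory.homologyFunctorFactors A j) τ).2 this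
    simp only [q, Functor.map_comp]
    infer_instance
  obtain ⟨Z, u', δ, hT⟩ := distinguished_cocone_triangle₁ q
  have hzero : ∀ j, j < N → IsZero ((DerivedCategory.homologyFunctor A j).obj
      (∐ fun i : ULift.{w} I => M' i.down)) := fun j hj => by
    refine IsZero.of_iso ?_ (((DerivedCategory.homologyFunctor A j).mapIso E'.symm) ≪≫
      (DerivedCategory.homologyFunctorFactors A j).app (∐ C'))
    change IsZero ((∐ C').homology j)
    rw [IsZero.iff_id_eq_zero]
    refine (Groth.Agent.FreeResLib.isColimitHomology _ (coproductIsCoproduct C') j).hom_ext fun i => ?_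
    exact (CochainComplex.isZero_of_isGE (C' i.as) N j hj).eq_of_src _ _
  have hZ : Z.IsLE N₀ := by
    rw [DerivedCategory.isLE_iff]
    intro j hj
    refine (DerivedCategory.HomologySequence.exact₁ _ hT (j - 1) j (by omega)).isZero_of_both_zeros ?_ ?_
    · by_cases hj' : j = N
      · exact (hzero (j - 1) (by omega)).eq_of_src _ _
      · haveI := hiso (j - 1) (by omega)
        exact (cancel_epi ((DerivedCategory.homologyFunctor A (j - 1)).map q)).1
          ((DerivedCategory.HomologySequence.comp_δ _ hT (j - 1) j (by omega)).trans comp_zero.symm)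
    · haveI := hiso j (by omega)
      refine (cancel_mono ((DerivedCategory.homologyFunctor A j).map q)).1 ?_
      refine Eq.trans ?_ zero_comp.symm
      exact ((DerivedCategory.homologyFunctor A j).map_comp _ _).symm.trans
        ((congrArg _ (comp_distTriang_mor_zero₁₂ _ hT)).trans (Functor.map_zero _ _ _))
  intro f
  obtain ⟨S, hS⟩ := finFac_bounded P hc M' N (fun i => (DerivedCategory.isGE_Q_obj_iff (C' i) N).2
    inferInstance) (f ≫ q)
  have hcut : PerfCompLib.cut (fun i : ULift.{w} I => M i.down) S ≫ q =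
      q ≫ PerfCompLib.cut (fun i : ULift.{w} I => M' i.down) S := by
    refine Sigma.hom_ext _ _ fun i => ?_
    refine (Category.assoc _ _ _).symm.trans ?_
    rw [PerfCompLib.ι_cut, reassoc_of% (hq i), PerfCompLib.ι_cut]
    split_ifs with hi
    · exact (hq i).trans (Category.assoc _ _ _)
    · simp
  obtain ⟨h, hh⟩ := Triangle.coyoneda_exact₂ _ hT
    (f ≫ PerfCompLib.cut (fun i : ULift.{w} I => M i.down) S - f) (by
      change (f ≫ PerfCompLib.cut _ S - f) ≫ q = 0
      rw [Preadditive.sub_comp, Category.assoc, hcut, ← Category.assoc, hS, sub_self])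
  refine ⟨S, sub_eq_zero.1 (hh.trans ?_)⟩
  exact (congrArg (· ≫ _) (hom_eq_zero P d hd Z hZ h)).trans zero_comp

omit [IsGrothendieckAbelian.{v} A] [HasExt.{v} A] in
/-- Getting rid of the `ULift`. -/
theorem finFac_down {D : Type*} [Category D] [Preadditive D] {I : Type v} (M : I → D) [HasCoproduct M]
    {K : D} [HasCoproduct fun i : ULift.{w} I => M i.down]
    (h : PerfCompLib.FinFac (fun i : ULift.{w} I => M i.down) K) : PerfCompLib.FinFac M K := by
  classical
  intro f
  let e : (∐ fun i : ULift.{w} I => M i.down) ≅ ∐ M :=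
    (coproductIsCoproduct fun i : ULift.{w} I => M i.down).coconePointUniqueUpToIso
      (PerfCompLib.isColimitULift _ (coproductIsCoproduct M))
  have he : ∀ i : ULift.{w} I, Sigma.ι (fun i : ULift.{w} I => M i.down) i ≫ e.hom = Sigma.ι M i.down :=
    fun i => IsColimit.comp_coconePointUniqueUpToIso_hom _ _ (Discrete.mk i)
  obtain ⟨S, hS⟩ := h (f ≫ e.inv)
  refine ⟨S.image ULift.down, ?_⟩
  have hcut : PerfCompLib.cut (fun i : ULift.{w} I => M i.down) S ≫ e.hom =
      e.hom ≫ PerfCompLib.cut M (S.image ULift.down) := by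
    refine Sigma.hom_ext _ _ fun i => ?_
    rw [← Category.assoc, ← Category.assoc, PerfCompLib.ι_cut, he, PerfCompLib.ι_cut]
    have hi : i ∈ S ↔ i.down ∈ S.image ULift.down := by
      simp only [Finset.mem_image]
      exact ⟨fun h => ⟨i, h, rfl⟩, fun ⟨j, hj, e⟩ => by rwa [ULift.down_injective e] at hj⟩
    by_cases h : i ∈ S
    · rw [if_pos h, if_pos (hi.1 h)]; exact he i
    · rw [if_neg h, if_neg fun h' => h (hi.2 h'), zero_comp]
  have := congrArg (· ≫ e.hom) hS
  simpa [Category.assoc, hcut] using this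

end Groth.Agent.AbCompactLib
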